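import Groth.Agent.Ega4late.H544.Dim

/-!
Dimension formula for local quotients of regular rings.
-/

set_option autoImplicit false
universe u

namespace Groth.Agent.Ega4late.H544.DimQuot

open IsLocalRing Groth.Agent.Ega4late.H544.Frame

/-- `ht ψ⁻¹(q) + dim A/q = ht ψ⁻¹(m)` for a local quotient `ψ : B → A` of a regular ring. -/
theorem height_comap_add_dim {B A : Type u} [CommRing B] [IsRegularRing B] [CommRing A] [IsLocalRing A]
    (ψ : B →+* A) (hψ : Function.Surjective ψ) (q : Ideal A) [q.IsPrime] :
    ((q.comap ψ).height : WithBot ℕ∞) + ringKrullDim (A ⧸ q) = (((maximalIdeal A).comap ψ).height : WithBot ℕ∞) := by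
  set M := (maximalIdeal A).comap ψ with hM
  set Q := q.comap ψ with hQ
  have hMp : M.IsPrime := Ideal.comap_isPrime _ _
  have hQp : Q.IsPrime := Ideal.comap_isPrime _ _
  have hQM : Q ≤ M := Ideal.comap_mono (IsLocalRing.le_maximalIdeal (Ideal.IsPrime.ne_top inferInstance))
  have hreg : IsRegularLocalRing (Localization.AtPrime M) := IsRegularRing.isRegularLocalRing_localization M
  have hdis : Disjoint (M.primeCompl : Set B) (Q : Set B) :=
    Set.disjoint_left.mpr fun x hx hxQ ↦ hx (hQM hxQ)
  have hQ' : (Q.map (algebraMap B (Localization.AtPrime M))).IsPrime :=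
    IsLocalization.isPrime_of_isPrime_disjoint M.primeCompl (Localization.AtPrime M) Q inferInstance hdis
  have h1 := Dim.height_add_dim_of_regular (Localization.AtPrime M) (Q.map (algebraMap B (Localization.AtPrime M)))
  have h2 : (Q.map (algebraMap B (Localization.AtPrime M))).height = Q.height :=
    IsLocalization.height_map_of_disjoint M.primeCompl Q hdis
  have h3 : ringKrullDim (Localization.AtPrime M) = (M.height : WithBot ℕ∞) :=
    IsLocalization.AtPrime.ringKrullDim_eq_height M (Localization.AtPrime M)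
  let e : (B ⧸ Q) ≃+* (A ⧸ q) := RingEquiv.ofBijective (Ideal.quotientMap q ψ le_rfl)
    ⟨Ideal.quotientMap_injective, Ideal.quotientMap_surjective hψ⟩
  have h4 := Dim.ringKrullDim_quotient_map_eq M Q hQM (fun s hs ↦ by
    have h5 : IsUnit (ψ s) := by
      by_contra h
      exact hs h
    have h6 : e (Ideal.Quotient.mk Q s) = Ideal.Quotient.mk q (ψ s) := rfl
    have h7 : IsUnit (e (Ideal.Quotient.mk Q s)) := by
      rw [h6]
      exact h5.map _
    rwa [MulEquiv.isUnit_map] at h7)
  rw [h2, h3, h4, ringKrullDim_eq_of_ringEquiv e] at h1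
  exact h1

/-- The dimension formula for a local quotient `A` of `k⟦T⟧[X]` integral over `k⟦T⟧`. -/
theorem height_comap {k A : Type u} [Field k] [CommRing A] [IsLocalRing A] {d m : ℕ} (ψ : PR k d m →+* A)
    (hψ : Function.Surjective ψ)
    (hint : (ψ.comp (MvPolynomial.C : PS k d →+* PR k d m)).IsIntegral) (q : Ideal A) [q.IsPrime] :
    ((q.comap ψ).height : WithBot ℕ∞) + ringKrullDim (A ⧸ q) = ((d + m : ℕ) : WithBot ℕ∞) := by
  have h1 : ((maximalIdeal A).comap ψ).height = ((d + m : ℕ) : ℕ∞) := by
    have hMmax : ((maximalIdeal A).comap ψ).IsMaximal := Ideal.comap_isMaximal_of_surjective _ hψ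
    have hMC : ((maximalIdeal A).comap ψ).comap (MvPolynomial.C : PS k d →+* PR k d m) = maximalIdeal (PS k d) := by
      rw [Ideal.comap_comap]
      have hh := Ideal.isMaximal_comap_of_isIntegral_of_isMaximal' (R := PS k d) (S := A) _ hint (maximalIdeal A)
      exact IsLocalRing.eq_maximalIdeal hh
    rw [Dim.height_eq_of_isMaximal (PS k d) m ((maximalIdeal A).comap ψ) hMC, Dim.height_maximalIdeal_PS]
    push_cast
    rfl
  have h2 := height_comap_add_dim (B := PR k d m) ψ hψ q
  rw [h1] at h2
  exact h2

end Groth.Agent.Ega4late.H544.DimQuot
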