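import Groth.Agent.Ega4late.H544.MainGen

/-!
Lower bound for the ranks of the fibres of the completed module of differentials.
-/

set_option autoImplicit false
universe u

namespace Groth.Agent.Ega4late.H544.Lower

open IsLocalRing TensorProduct Groth.Agent.Ega4late.H544.CotLin Groth.Agent.Ega4late.H544.Point
  Groth.Agent.Ega4late.H544.PointGen Groth.Agent.Ega4late.H544.MainGen

theorem rank_map_le {κ V W : Type*} [Field κ] [AddCommGroup V] [Module κ V] [FiniteDimensional κ V]
    [AddCommGroup W] [Module κ W] (U : Submodule κ V) (θ : V →ₗ[κ] W) :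
    Module.finrank κ (U.map θ) ≤ Module.finrank κ V :=
  (Submodule.finrank_map_le θ U).trans (Submodule.finrank_le U)

section lower

variable {A Ω B : Type u} [CommRing A] [AddCommGroup Ω] [Module A Ω] [CommRing B] [IsRegularRing B]
  (ψ : B →+* A) (hψ : Function.Surjective ψ)
  {ι : Type} [Fintype ι] {K : Type u} [Field K] [Algebra K B] (D : ι → Derivation K B B)
  (π : (ι → A) →ₗ[A] Ω) (hπ : Function.Surjective π)
  (hker : LinearMap.ker π = Submodule.span A ((fun (f : B) (l : ι) ↦ ψ (D l f)) '' (RingHom.ker ψ : Set B)))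
  (hht : ∀ (q : Ideal A) [q.IsPrime],
    ((q.comap ψ).height : WithBot ℕ∞) + ringKrullDim (A ⧸ q) = ((Fintype.card ι : ℕ) : WithBot ℕ∞))

include hψ hπ hker hht in
/-- The rank of the fibre at a prime `q` of `A` is at least `dim A/q`. -/
theorem le_finrank (q : Ideal A) [q.IsPrime] (n : ℕ) (hdim : ringKrullDim (A ⧸ q) = n) :
    ∃ (κ : Type u) (_ : Field κ) (_ : Algebra A κ), RingHom.ker (algebraMap A κ) = q ∧
      n ≤ Module.finrank κ (κ ⊗[A] Ω) := by
  obtain ⟨P, hP⟩ : ∃ P : Ideal B, P = q.comap ψ := ⟨_, rfl⟩
  have hPp : P.IsPrime := hP ▸ Ideal.comap_isPrime _ _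
  obtain ⟨ρ, hρ, hkρ⟩ := exists_residue ψ hψ (RingHom.id B) (RingHom.id A) ψ (fun _ ↦ rfl) q P hP
  letI : Algebra A (ResidueField (Localization.AtPrime P)) := ρ.toAlgebra
  haveI : IsRegularLocalRing (Localization.AtPrime P) := IsRegularRing.isRegularLocalRing_localization P
  have hI : (RingHom.ker ψ).map (algebraMap B (Localization.AtPrime P)) ≤
      maximalIdeal (Localization.AtPrime P) := by
    rw [Ideal.map_le_iff_le_comap]
    intro b hb
    rw [Ideal.mem_comap, mem_maximalIdeal_iff P, hP, Ideal.mem_comap, (RingHom.mem_ker.mp hb : ψ b = 0)]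
    exact Ideal.zero_mem _
  have hfib := finrank_fibre (A := A) (Ω := Ω) ψ (fun l f ↦ D l f) D P (Localization.AtPrime P) π hπ hker
    (RingHom.id B) (fun _ ↦ rfl) (fun _ _ ↦ rfl) hI (fun b ↦ hρ b)
  refine ⟨ResidueField (Localization.AtPrime P), inferInstance, inferInstance, hkρ, ?_⟩
  have h2 := CoreGen.finrank_cotangentSpace (Localization.AtPrime P)
  rw [IsLocalization.AtPrime.ringKrullDim_eq_height P (Localization.AtPrime P)] at h2
  have h3 := hht q
  rw [hdim, ← hP, ← h2] at h3
  have h4 : Module.finrank (ResidueField (Localization.AtPrime P)) (CotangentSpace (Localization.AtPrime P)) + n =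
    Fintype.card ι := by exact_mod_cast h3
  have h5 : Module.finrank (ResidueField (Localization.AtPrime P))
      ((cotSpan ((RingHom.ker ψ).map (algebraMap B (Localization.AtPrime P)) :
        Set (Localization.AtPrime P))).map (theta (locDer D P (Localization.AtPrime P)))) ≤
      Module.finrank (ResidueField (Localization.AtPrime P)) (CotangentSpace (Localization.AtPrime P)) :=
    rank_map_le _ _
  generalize Module.finrank (ResidueField (Localization.AtPrime P))
      ((cotSpan ((RingHom.ker ψ).map (algebraMap B (Localization.AtPrime P)) :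
        Set (Localization.AtPrime P))).map (theta (locDer D P (Localization.AtPrime P)))) = x at hfib h5
  generalize Module.finrank (ResidueField (Localization.AtPrime P)) (CotangentSpace (Localization.AtPrime P)) = y
    at h4 h5
  omega

end lower

end Groth.Agent.Ega4late.H544.Lower
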