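import Groth.Agent.Ega4late.H544.PointGen

/-!
The two key implications of S3851 at a prime `p'` of a base change `S` of `A`, in an abstract setting.
-/

set_option autoImplicit false
universe u

namespace Groth.Agent.Ega4late.H544.MainGen

open IsLocalRing TensorProduct Groth.Agent.Ega4late.H544.CotLin Groth.Agent.Ega4late.H544.Point
  Groth.Agent.Ega4late.H544.PointGen

section regular

/-- Regularity of a localization of a quotient. -/
theorem isRegularLocalRing_iff {B S : Type u} [CommRing B] [CommRing S] (g : B →+* S) (hg : Function.Surjective g)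
    (p' : Ideal S) [p'.IsPrime] (P : Ideal B) [P.IsPrime] (hP : P = p'.comap g) :
    IsRegularLocalRing (Localization.AtPrime P ⧸ (RingHom.ker g).map (algebraMap B (Localization.AtPrime P))) ↔
      IsRegularLocalRing (Localization.AtPrime p') := by
  have e := Ega4A.QuotLoc.quotLocEquiv g hg p' P hP (RingHom.ker g) le_rfl
  have h0 : ((RingHom.ker g).map g).map (algebraMap S (Localization.AtPrime p')) = ⊥ := by
    rw [(Ideal.map_eq_bot_iff_le_ker g).mpr le_rfl, Ideal.map_bot]
  let e' := e.trans ((Ideal.quotEquivOfEq h0).trans (RingEquiv.quotientBot _))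
  exact ⟨fun _ ↦ IsRegularLocalRing.of_ringEquiv e', fun _ ↦ IsRegularLocalRing.of_ringEquiv e'.symm⟩

end regular

section main

variable {A Ω B₀ S : Type u} [CommRing A] [AddCommGroup Ω] [Module A Ω] [CommRing B₀] [IsNoetherianRing B₀]
  [CommRing S] (ψ : B₀ →+* A) (hψ : Function.Surjective ψ)
  {ι : Type} [Fintype ι] (D₀ : ι → B₀ → B₀)
  {K B : Type u} [Field K] [CommRing B] [IsRegularRing B] [Algebra K B] (D : ι → Derivation K B B)
  (π : (ι → A) →ₗ[A] Ω) (hπ : Function.Surjective π)
  (hker : LinearMap.ker π = Submodule.span A ((fun (f : B₀) (l : ι) ↦ ψ (D₀ l f)) '' (RingHom.ker ψ : Set B₀)))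
  (hht : ∀ (q : Ideal A) [q.IsPrime],
    ((q.comap ψ).height : WithBot ℕ∞) + ringKrullDim (A ⧸ q) = ((Fintype.card ι : ℕ) : WithBot ℕ∞))
  (φ : B₀ →+* B) (hφ : ∀ l f, φ (D₀ l f) = D l (φ f)) (hflat : φ.Flat)
  (f : A →+* S) (g : B →+* S) (hg : Function.Surjective g) (hgφ : ∀ b, g (φ b) = f (ψ b))
  (hkg : RingHom.ker g = (RingHom.ker ψ).map φ)
  (p' : Ideal S) [p'.IsPrime]

include hψ hgφ in
/-- The residue map on `A` at the point `p'`. -/
theorem exists_residue (P : Ideal B) [P.IsPrime] (hP : P = p'.comap g) :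
    ∃ ρ : A →+* ResidueField (Localization.AtPrime P),
      (∀ b, ρ (ψ b) = algebraMap B (ResidueField (Localization.AtPrime P)) (φ b)) ∧
      RingHom.ker ρ = p'.comap f := by
  have hle : RingHom.ker ψ ≤ RingHom.ker ((algebraMap B (ResidueField (Localization.AtPrime P))).comp φ) := by
    intro b hb
    rw [RingHom.mem_ker, RingHom.comp_apply, algebraMap_residue_eq_zero_iff P (Localization.AtPrime P), hP,
      Ideal.mem_comap, hgφ, (RingHom.mem_ker.mp hb : ψ b = 0), map_zero]
    exact Ideal.zero_mem _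
  refine ⟨ψ.liftOfSurjective hψ ⟨_, hle⟩, fun b ↦ ?_, ?_⟩
  · rw [RingHom.liftOfSurjective_comp_apply]
    rfl
  · ext a
    obtain ⟨b, rfl⟩ := hψ a
    rw [RingHom.mem_ker, RingHom.liftOfSurjective_comp_apply, Ideal.mem_comap, ← hgφ, ← Ideal.mem_comap, ← hP,
      ← algebraMap_residue_eq_zero_iff P (Localization.AtPrime P)]
    rfl

include hψ hπ hker hht hφ hflat hg hgφ hkg in
/-- (b) ⟹ (a). -/
theorem regular_of_finrank (n : ℕ)
    (hn : ∀ (κ : Type u) [Field κ] [Algebra A κ], RingHom.ker (algebraMap A κ) = p'.comap f →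
      Module.finrank κ (κ ⊗[A] Ω) = n)
    (q : Ideal A) [q.IsPrime] (hq : q ≤ p'.comap f) (hdim : ringKrullDim (A ⧸ q) = n) :
    IsRegularLocalRing (Localization.AtPrime p') := by
  obtain ⟨P, hP⟩ : ∃ P : Ideal B, P = p'.comap g := ⟨_, rfl⟩
  have hPp : P.IsPrime := hP ▸ Ideal.comap_isPrime _ _
  obtain ⟨ρ, hρ, hkρ⟩ := exists_residue ψ hψ φ f g hgφ p' P hP
  rw [← isRegularLocalRing_iff g hg p' P hP]
  letI : Algebra B₀ (Localization.AtPrime P) := ((algebraMap B (Localization.AtPrime P)).comp φ).toAlgebra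
  haveI : Module.Flat B₀ (Localization.AtPrime P) := by
    have h1 : ((algebraMap B (Localization.AtPrime P)).comp φ).Flat :=
      RingHom.Flat.comp hflat (RingHom.flat_algebraMap_iff.mpr inferInstance)
    exact h1
  letI : Algebra A (ResidueField (Localization.AtPrime P)) := ρ.toAlgebra
  haveI : IsRegularLocalRing (Localization.AtPrime P) := IsRegularRing.isRegularLocalRing_localization P
  have hmapeq : (RingHom.ker g).map (algebraMap B (Localization.AtPrime P)) =
      (RingHom.ker ψ).map (algebraMap B₀ (Localization.AtPrime P)) := by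
    rw [hkg, Ideal.map_map]
    rfl
  have hres : ∀ b : B₀, algebraMap B₀ (Localization.AtPrime P) b ∈ maximalIdeal (Localization.AtPrime P) ↔
      f (ψ b) ∈ p' := by
    intro b
    change algebraMap B (Localization.AtPrime P) (φ b) ∈ _ ↔ _
    rw [mem_maximalIdeal_iff P, hP, Ideal.mem_comap, hgφ]
  have hI : (RingHom.ker ψ).map (algebraMap B₀ (Localization.AtPrime P)) ≤
      maximalIdeal (Localization.AtPrime P) := by
    rw [Ideal.map_le_iff_le_comap]
    intro b hb
    rw [Ideal.mem_comap, hres, (RingHom.mem_ker.mp hb : ψ b = 0), map_zero]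
    exact Ideal.zero_mem _
  have hfib := finrank_fibre (A := A) (Ω := Ω) ψ D₀ D P (Localization.AtPrime P) π hπ hker φ (fun _ ↦ rfl) hφ hI
    (fun b ↦ hρ b)
  rw [hn (ResidueField (Localization.AtPrime P)) hkρ] at hfib
  rw [hmapeq]
  refine CoreGen.isRegularLocalRing_of_finrank ψ hI _ _ n hfib q ?_ (hht q) hdim
  rw [Ideal.map_le_iff_le_comap]
  intro b hb
  rw [Ideal.mem_comap, hres]
  exact hq hb

include hψ hπ hker hht hφ hflat hg hgφ hkg in
/-- (a') ⟹ (b), numerical part. -/
theorem finrank_le_of_regular (n : ℕ)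
    (hdens : ∀ (P : Ideal B) [P.IsPrime], P = p'.comap g → ∀ (κ : Type u) [Field κ] [Algebra B κ],
      (∀ x : κ, ∃ a b : B, algebraMap B κ b ≠ 0 ∧ x * algebraMap B κ b = algebraMap B κ a) →
      RingHom.ker (algebraMap B κ) = P → ∀ δ : Derivation ℤ B κ,
        ∃ l : ι → κ, ∀ f : B, algebraMap B κ f = 0 → δ f = ∑ i, l i * algebraMap B κ (D i f))
    (hreg : IsRegularLocalRing (Localization.AtPrime p'))
    (q : Ideal A) (hqmin : q ∈ minimalPrimes A) (hq : q ≤ p'.comap f) (hdim : ringKrullDim (A ⧸ q) = n) :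
    ∃ (κ : Type u) (_ : Field κ) (_ : Algebra A κ), RingHom.ker (algebraMap A κ) = p'.comap f ∧
      Module.finrank κ (κ ⊗[A] Ω) ≤ n := by
  obtain ⟨P, hP⟩ : ∃ P : Ideal B, P = p'.comap g := ⟨_, rfl⟩
  have hPp : P.IsPrime := hP ▸ Ideal.comap_isPrime _ _
  obtain ⟨ρ, hρ, hkρ⟩ := exists_residue ψ hψ φ f g hgφ p' P hP
  rw [← isRegularLocalRing_iff g hg p' P hP] at hreg
  letI : Algebra B₀ (Localization.AtPrime P) := ((algebraMap B (Localization.AtPrime P)).comp φ).toAlgebra
  haveI : Module.Flat B₀ (Localization.AtPrime P) := by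
    have h1 : ((algebraMap B (Localization.AtPrime P)).comp φ).Flat :=
      RingHom.Flat.comp hflat (RingHom.flat_algebraMap_iff.mpr inferInstance)
    exact h1
  letI : Algebra A (ResidueField (Localization.AtPrime P)) := ρ.toAlgebra
  haveI : IsRegularLocalRing (Localization.AtPrime P) := IsRegularRing.isRegularLocalRing_localization P
  have hmapeq : (RingHom.ker g).map (algebraMap B (Localization.AtPrime P)) =
      (RingHom.ker ψ).map (algebraMap B₀ (Localization.AtPrime P)) := by
    rw [hkg, Ideal.map_map]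
    rfl
  rw [hmapeq] at hreg
  have hres : ∀ b : B₀, algebraMap B₀ (Localization.AtPrime P) b ∈ maximalIdeal (Localization.AtPrime P) ↔
      f (ψ b) ∈ p' := by
    intro b
    change algebraMap B (Localization.AtPrime P) (φ b) ∈ _ ↔ _
    rw [mem_maximalIdeal_iff P, hP, Ideal.mem_comap, hgφ]
  have hI : (RingHom.ker ψ).map (algebraMap B₀ (Localization.AtPrime P)) ≤
      maximalIdeal (Localization.AtPrime P) := by
    rw [Ideal.map_le_iff_le_comap]
    intro b hb
    rw [Ideal.mem_comap, hres, (RingHom.mem_ker.mp hb : ψ b = 0), map_zero]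
    exact Ideal.zero_mem _
  have hfib := finrank_fibre (A := A) (Ω := Ω) ψ D₀ D P (Localization.AtPrime P) π hπ hker φ (fun _ ↦ rfl) hφ hI
    (fun b ↦ hρ b)
  have hκker : RingHom.ker (algebraMap B (ResidueField (Localization.AtPrime P))) = P := by
    ext b
    rw [RingHom.mem_ker, algebraMap_residue_eq_zero_iff P (Localization.AtPrime P)]
  have hκfrac : ∀ x : ResidueField (Localization.AtPrime P), ∃ a b : B,
      algebraMap B (ResidueField (Localization.AtPrime P)) b ≠ 0 ∧
        x * algebraMap B (ResidueField (Localization.AtPrime P)) b =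
          algebraMap B (ResidueField (Localization.AtPrime P)) a := by
    intro x
    obtain ⟨y, rfl⟩ := residue_surjective x
    obtain ⟨⟨a, s⟩, has⟩ := IsLocalization.surj P.primeCompl y
    refine ⟨a, s, ?_, ?_⟩
    · rw [Ne, algebraMap_residue_eq_zero_iff P (Localization.AtPrime P)]
      exact s.2
    · change residue _ y * residue _ (algebraMap B _ (s : B)) = residue _ (algebraMap B _ a)
      rw [← map_mul, has]
  have hinj : Function.Injective (theta (locDer D P (Localization.AtPrime P))) :=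
    theta_injective_of_density D P (Localization.AtPrime P) (hdens P hP _ hκfrac hκker)
  refine ⟨ResidueField (Localization.AtPrime P), inferInstance, inferInstance, hkρ, ?_⟩
  have hqp : q.IsPrime := hqmin.1.1
  refine CoreGen.le_of_isRegularLocalRing ψ hψ hI _ hinj _ n _ hfib hreg q hqmin ?_ (hht q) hdim
  rw [Ideal.map_le_iff_le_comap]
  intro b hb
  rw [Ideal.mem_comap, hres]
  exact hq hb

end main

end Groth.Agent.Ega4late.H544.MainGen
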