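import Groth.Agent.Ega4late.H544.Pkg
import Groth.Agent.Ega4late.H544.Struct
import Groth.Agent.Ega4late.H544.MainGen
import Groth.Agent.Ega4late.H544.Lower
import Groth.Agent.Ega4late.H544.FieldRank
import Groth.Agent.Ega4late.H544.DimQuot
import Groth.Agent.Ega4late.H517.Density

/-!
The implications of S3851 over a chosen presentation `k⟦T⟧[X] → A`.
-/

set_option autoImplicit false
universe u

namespace Groth.Agent.Ega4late.H544.Assemble

open IsLocalRing TensorProduct Groth.Agent.Ega4late.H544.Frame Groth.Agent.Ega4late.H544.Pres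
  Groth.Agent.Ega4late.H544.Dim Groth.Agent.Ega4late.H539.OmegaHat

section

variable {k A : Type u} [Field k] [CommRing A] [IsLocalRing A] [IsNoetherianRing A] [Algebra k A]
  {d m : ℕ} [Algebra (PS k d) A] [Module.Finite (PS k d) A]
  (f : MvPolynomial (Fin m) (PS k d) →ₐ[PS k d] A) (hf : Function.Surjective f)

omit [IsNoetherianRing A] [Algebra k A] in
include hf in
/-- The dimension formula. -/
theorem hht (q : Ideal A) [q.IsPrime] :
    ((q.comap f.toRingHom).height : WithBot ℕ∞) + ringKrullDim (A ⧸ q) =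
      ((Fintype.card (Fin d ⊕ Fin m) : ℕ) : WithBot ℕ∞) := by
  have h1 := DimQuot.height_comap (k := k) (d := d) (m := m) f.toRingHom hf (Struct.isIntegral_comp_C f) q
  rw [h1, Fintype.card_sum, Fintype.card_fin, Fintype.card_fin]

end

section

variable (k : Type u) [Field k] [PerfectField k] (d m : ℕ)

omit [PerfectField k] in
/-- Independence of the choice of the `ℤ`-algebra structure. -/
theorem exists_der {B κ : Type u} [CommRing B] [Field κ] [Algebra B κ] (δ : Derivation ℤ B κ) (inst : Algebra ℤ B) :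
    ∃ δ' : @Derivation ℤ B κ _ _ _ inst _ _, ∀ b, δ' b = δ b := by
  obtain rfl : inst = Ring.toIntAlgebra B := Subsingleton.elim _ _
  exact ⟨δ, fun _ ↦ rfl⟩

/-- The density lemma in the form needed. -/
theorem hdens {S : Type u} [CommRing S] (g : PR k d m →+* S)
    (hint : (g.comp (MvPolynomial.C : PS k d →+* PR k d m)).IsIntegral) (p' : Ideal S)
    (P : Ideal (PR k d m)) (hP : P = p'.comap g) (κ : Type u) [Field κ] [Algebra (PR k d m) κ]
    (hfrac : ∀ x : κ, ∃ a b : PR k d m, algebraMap _ κ b ≠ 0 ∧ x * algebraMap _ κ b = algebraMap _ κ a)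
    (hker : RingHom.ker (algebraMap (PR k d m) κ) = P)
    (δ : @Derivation ℤ (PR k d m) κ _ _ _ (Ring.toIntAlgebra (PR k d m)) _ _) :
    ∃ l : Fin d ⊕ Fin m → κ, ∀ f : PR k d m, algebraMap _ κ f = 0 →
      δ f = ∑ i, l i * algebraMap _ κ (der k d m i f) := by
  obtain ⟨δ', hδ'⟩ := exists_der (B := PR k d m) (κ := κ) δ inferInstance
  simp only [← hδ']
  refine H517.Density.density k d m hfrac (fun x ↦ ?_) δ'
  obtain ⟨h, hh, hh0⟩ := hint (g x)
  refine ⟨h, hh, ?_⟩
  have h1 := Polynomial.hom_eval₂ h (MvPolynomial.C : PS k d →+* PR k d m) g x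
  rw [hh0] at h1
  have h2 : Polynomial.eval₂ (MvPolynomial.C : PS k d →+* PR k d m) x h ∈ P := by
    rw [hP, Ideal.mem_comap, h1]
    exact Ideal.zero_mem _
  rw [← hker, RingHom.mem_ker, Polynomial.hom_eval₂] at h2
  exact h2

end

section

variable {k A : Type u} [Field k] [CommRing A] [IsLocalRing A] [IsNoetherianRing A] [Algebra k A]
  [IsAdicComplete (maximalIdeal A) A] [Module.Finite k (ResidueField A)]
  {d m : ℕ} [Algebra (PS k d) A] [IsScalarTower k (PS k d) A] [Module.Finite (PS k d) A]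
  (f : MvPolynomial (Fin m) (PS k d) →ₐ[PS k d] A) (hf : Function.Surjective f)
  (hX : ∀ i, algebraMap (PS k d) A (MvPowerSeries.X i) ∈ maximalIdeal A)

include hf hX in
theorem exists_pi : ∃ π : ((Fin d ⊕ Fin m) → A) →ₗ[A] OmHat k A, Function.Surjective π ∧
    LinearMap.ker π = Submodule.span A
      ((fun (b : PR k d m) (l : Fin d ⊕ Fin m) ↦ f.toRingHom (der k d m l b)) ''
        (RingHom.ker f.toRingHom : Set (PR k d m))) := by
  obtain ⟨π, h1, h2, -⟩ := presentation (k := k) f.toRingHom hf (Struct.apply_C_C f) (Struct.apply_var_inl f hX)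
  exact ⟨π, h1, h2⟩

include hf hX in
/-- The lower bound for the rank at a minimal prime. -/
theorem le_finrank (q : Ideal A) [q.IsPrime] (n : ℕ) (hdim : ringKrullDim (A ⧸ q) = n) :
    ∃ (κ : Type u) (_ : Field κ) (_ : Algebra A κ), RingHom.ker (algebraMap A κ) = q ∧
      n ≤ Module.finrank κ (κ ⊗[A] OmHat k A) := by
  obtain ⟨π, hπ, hker⟩ := exists_pi f hf hX
  have hreg := isRegularRing_PR k d m
  exact Lower.le_finrank (A := A) (Ω := OmHat k A) (B := PR k d m) f.toRingHom hf (K := k)
    (fun l ↦ der k d m l) π hπ hker (hht f hf) q n hdim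

include hf hX in
/-- (b) ⟹ (a) with the maps given. -/
theorem regular_of_finrank (k' : Type u) [Field k'] [Algebra k k'] {S : Type u} [CommRing S]
    (fS : A →+* S) (g : PR k' d m →+* S) (hg : Function.Surjective g)
    (hgφ : ∀ b, g (bc k k' d m b) = fS (f.toRingHom b))
    (hkg : RingHom.ker g = (RingHom.ker f.toRingHom).map (bc k k' d m)) (hflat : (bc k k' d m).Flat)
    (p' : Ideal S) [p'.IsPrime] (n : ℕ)
    (hn : ∀ (κ : Type u) [Field κ] [Algebra A κ], RingHom.ker (algebraMap A κ) = p'.comap fS →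
      Module.finrank κ (κ ⊗[A] OmHat k A) = n)
    (q : Ideal A) [q.IsPrime] (hq : q ≤ p'.comap fS) (hdim : ringKrullDim (A ⧸ q) = n) :
    IsRegularLocalRing (Localization.AtPrime p') := by
  obtain ⟨π, hπ, hker⟩ := exists_pi f hf hX
  have hreg := isRegularRing_PR k' d m
  exact MainGen.regular_of_finrank (A := A) (Ω := OmHat k A) (B₀ := PR k d m) (S := S) f.toRingHom hf
    (fun l b ↦ der k d m l b) (K := k') (B := PR k' d m) (fun l ↦ der k' d m l) π hπ hker (hht f hf)
    (bc k k' d m) bc_der hflat fS g hg hgφ hkg p' n hn q hq hdim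

include hf hX in
/-- (a') ⟹ (b), numerical part, with the maps given. -/
theorem finrank_le_of_regular (k' : Type u) [Field k'] [Algebra k k'] [PerfectField k'] {S : Type u} [CommRing S]
    (fS : A →+* S) (g : PR k' d m →+* S) (hg : Function.Surjective g)
    (hgφ : ∀ b, g (bc k k' d m b) = fS (f.toRingHom b))
    (hkg : RingHom.ker g = (RingHom.ker f.toRingHom).map (bc k k' d m)) (hflat : (bc k k' d m).Flat)
    (hint : (g.comp (MvPolynomial.C : PS k' d →+* PR k' d m)).IsIntegral)
    (p' : Ideal S) [p'.IsPrime] (n : ℕ) (hregp : IsRegularLocalRing (Localization.AtPrime p'))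
    (q : Ideal A) (hqmin : q ∈ minimalPrimes A) (hq : q ≤ p'.comap fS) (hdim : ringKrullDim (A ⧸ q) = n) :
    ∃ (κ : Type u) (_ : Field κ) (_ : Algebra A κ), RingHom.ker (algebraMap A κ) = p'.comap fS ∧
      Module.finrank κ (κ ⊗[A] OmHat k A) ≤ n := by
  obtain ⟨π, hπ, hker⟩ := exists_pi f hf hX
  have hreg := isRegularRing_PR k' d m
  exact MainGen.finrank_le_of_regular (A := A) (Ω := OmHat k A) (B₀ := PR k d m) (S := S) f.toRingHom hf
    (fun l b ↦ der k d m l b) (K := k') (B := PR k' d m) (fun l ↦ der k' d m l) π hπ hker (hht f hf)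
    (bc k k' d m) bc_der hflat fS g hg hgφ hkg p' n
    (fun P _ hP κ _ _ hfrac hkerκ δ ↦ hdens k' d m g hint p' P hP κ hfrac hkerκ δ) hregp q hqmin hq hdim

end

end Groth.Agent.Ega4late.H544.Assemble
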