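import Groth.Agent.Ega4late.H544.Dim

/-!
Dimension formulas for a flat algebra with regular target.
-/

set_option autoImplicit false
universe u

namespace Groth.Agent.Ega4late.H544.FlatDim

open IsLocalRing

variable {B R : Type u} [CommRing B] [IsNoetherianRing B] [CommRing R] [IsRegularLocalRing R] [Algebra B R]
  [Module.Flat B R]

/-- `dim R ≤ ht Q + dim R/J` if `J ≤ QR`. -/
theorem ringKrullDim_le (Q : Ideal B) [Q.IsPrime] (J : Ideal R) (hJ : J ≤ Q.map (algebraMap B R))
    (hQ : Q.map (algebraMap B R) ≠ ⊤) :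
    ringKrullDim R ≤ (Q.height : WithBot ℕ∞) + ringKrullDim (R ⧸ J) := by
  obtain ⟨q, hq⟩ := Ideal.nonempty_minimalPrimes hQ
  have hqp : q.IsPrime := hq.1.1
  have h1 := Ega4A.EquidimFlat.height_of_mem_minimalPrimes_map Q hq
  rw [← Dim.height_add_dim_of_regular R q, h1]
  exact add_le_add_right (ringKrullDim_le_of_surjective (Ideal.Quotient.factor (hJ.trans hq.1.2))
    (Ideal.Quotient.factor_surjective _)) _

/-- `dim R = ht Q + dim R/J` if `J = QR` is prime with `Q = J ∩ B`. -/
theorem ringKrullDim_eq (J : Ideal R) [J.IsPrime]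
    (hJ : J ≤ (J.comap (algebraMap B R)).map (algebraMap B R)) :
    ringKrullDim R = ((J.comap (algebraMap B R)).height : WithBot ℕ∞) + ringKrullDim (R ⧸ J) := by
  have h0 : (J.comap (algebraMap B R)).map (algebraMap B R) = J := le_antisymm Ideal.map_comap_le hJ
  have hq : J ∈ ((J.comap (algebraMap B R)).map (algebraMap B R)).minimalPrimes := by
    rw [h0, Ideal.minimalPrimes_eq_subsingleton_self]
    rfl
  have h1 := Ega4A.EquidimFlat.height_of_mem_minimalPrimes_map (J.comap (algebraMap B R)) hq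
  rw [← Dim.height_add_dim_of_regular R J, h1]

/-- Going down: if `J = IR` is prime and `Q₀` is a prime of `B` containing `I` and contained in the contraction of the
maximal ideal of `R`, then `J ∩ B ≤ Q₀`. -/
theorem comap_le (I Q₀ : Ideal B) [Q₀.IsPrime] (hI : I ≤ Q₀)
    (hQ₀ : Q₀ ≤ (maximalIdeal R).comap (algebraMap B R)) :
    (I.map (algebraMap B R)).comap (algebraMap B R) ≤ Q₀ := by
  have : (maximalIdeal R).LiesOver ((maximalIdeal R).comap (algebraMap B R)) := ⟨rfl⟩
  obtain ⟨q, hq1, hq2, hq3⟩ := Ideal.exists_ideal_le_liesOver_of_le (S := R) (p := Q₀)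
    (q := (maximalIdeal R).comap (algebraMap B R)) (maximalIdeal R) hQ₀
  have h1 : I.map (algebraMap B R) ≤ q := by
    rw [Ideal.map_le_iff_le_comap]
    exact hI.trans hq3.over.le
  exact (Ideal.comap_mono h1).trans hq3.over.ge

end Groth.Agent.Ega4late.H544.FlatDim
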