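import Groth.Agent.Ega4late.H544.CotLin
import Groth.Agent.Ega4late.H544.FlatDim

/-!
The two key implications of S3851 at a point, in an abstract setting.
-/

set_option autoImplicit false
universe u

namespace Groth.Agent.Ega4late.H544.CoreGen

open IsLocalRing Groth.Agent.Ega4late.H544.CotLin

variable {B A R : Type u} [CommRing B] [IsNoetherianRing B] [CommRing A] (ψ : B →+* A)
  [CommRing R] [IsRegularLocalRing R] [Algebra B R] [Module.Flat B R]

theorem finrank_cotangentSpace (R : Type u) [CommRing R] [IsRegularLocalRing R] :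
    (Module.finrank (ResidueField R) (CotangentSpace R) : WithBot ℕ∞) = ringKrullDim R :=
  (IsRegularLocalRing.iff_finrank_cotangentSpace R).mp inferInstance

theorem exists_height {h : ℕ∞} {n N : ℕ} (h4 : (h : WithBot ℕ∞) + (n : WithBot ℕ∞) = (N : WithBot ℕ∞)) :
    ∃ t : ℕ, h = t ∧ t + n = N := by
  have h6 : h + (n : ℕ∞) = (N : ℕ∞) := by exact_mod_cast h4
  have h5 : h ≠ ⊤ := by
    rintro rfl
    rw [top_add] at h6
    exact ENat.top_ne_coe N h6
  obtain ⟨t, rfl⟩ := ENat.ne_top_iff_exists.mp h5
  exact ⟨t, rfl, by exact_mod_cast h6⟩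

/-- The implication (b) ⟹ (a) at a point. -/
theorem isRegularLocalRing_of_finrank
    (hI : (RingHom.ker ψ).map (algebraMap B R) ≤ maximalIdeal R)
    {V : Type*} [AddCommGroup V] [Module (ResidueField R) V] (θ : CotangentSpace R →ₗ[ResidueField R] V)
    (N n : ℕ)
    (hfib : n + Module.finrank (ResidueField R)
      ((cotSpan ((RingHom.ker ψ).map (algebraMap B R) : Set R)).map θ) = N)
    (q : Ideal A) [q.IsPrime] (hq : (q.comap ψ).map (algebraMap B R) ≤ maximalIdeal R)
    (hht : ((q.comap ψ).height : WithBot ℕ∞) + ringKrullDim (A ⧸ q) = (N : WithBot ℕ∞))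
    (hdim : ringKrullDim (A ⧸ q) = n) :
    IsRegularLocalRing (R ⧸ (RingHom.ker ψ).map (algebraMap B R)) := by
  set J := (RingHom.ker ψ).map (algebraMap B R) with hJ
  have h2 : Module.finrank (ResidueField R) ((cotSpan (J : Set R)).map θ) ≤
        Module.finrank (ResidueField R) (cotSpan (J : Set R)) :=
    Submodule.finrank_map_le _ _
  rw [hdim] at hht
  obtain ⟨t, ht, h5⟩ := exists_height hht
  have hle : J ≤ (q.comap ψ).map (algebraMap B R) := Ideal.map_mono (Ideal.comap_mono bot_le)
  have hne : (q.comap ψ).map (algebraMap B R) ≠ ⊤ :=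
    fun h ↦ (maximalIdeal.isMaximal R).ne_top (top_le_iff.mp (h ▸ hq))
  have h6 := FlatDim.ringKrullDim_le (q.comap ψ) J hle hne
  rw [ht] at h6
  apply isRegularLocalRing_quotient _ hI
  rw [finrank_cotangentSpace]
  refine h6.trans ?_
  rw [add_comm]
  refine add_le_add_right ?_ _
  have h7 : t ≤ Module.finrank (ResidueField R) (cotSpan (J : Set R)) := by omega
  exact_mod_cast h7

/-- The implication (a') ⟹ (b) at a point (numerical part). -/
theorem le_of_isRegularLocalRing (hψ : Function.Surjective ψ)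
    (hI : (RingHom.ker ψ).map (algebraMap B R) ≤ maximalIdeal R)
    {V : Type*} [AddCommGroup V] [Module (ResidueField R) V] (θ : CotangentSpace R →ₗ[ResidueField R] V)
    (hinj : Function.Injective θ)
    (N n r : ℕ)
    (hfib : r + Module.finrank (ResidueField R)
      ((cotSpan ((RingHom.ker ψ).map (algebraMap B R) : Set R)).map θ) = N)
    (hreg : IsRegularLocalRing (R ⧸ (RingHom.ker ψ).map (algebraMap B R)))
    (q : Ideal A) (hqmin : q ∈ minimalPrimes A) (hq : (q.comap ψ).map (algebraMap B R) ≤ maximalIdeal R)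
    (hht : ((q.comap ψ).height : WithBot ℕ∞) + ringKrullDim (A ⧸ q) = (N : WithBot ℕ∞))
    (hdim : ringKrullDim (A ⧸ q) = n) : r ≤ n := by
  set J := (RingHom.ker ψ).map (algebraMap B R) with hJ
  have hqp : q.IsPrime := hqmin.1.1
  have hdom : IsDomain (R ⧸ J) := Groth.Agent.S0558.result _
  have hJp : J.IsPrime := (Ideal.Quotient.isDomain_iff_prime _).mp hdom
  have hJle : J ≤ (J.comap (algebraMap B R)).map (algebraMap B R) := Ideal.map_mono Ideal.le_comap_map
  have hQ₀ : q.comap ψ ≤ (maximalIdeal R).comap (algebraMap B R) := Ideal.map_le_iff_le_comap.mp hq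
  have h1 : J.comap (algebraMap B R) ≤ q.comap ψ :=
    FlatDim.comap_le (RingHom.ker ψ) (q.comap ψ) (Ideal.comap_mono bot_le) hQ₀
  have hker : RingHom.ker ψ ≤ J.comap (algebraMap B R) := Ideal.le_comap_map
  have h2 : J.comap (algebraMap B R) = q.comap ψ := by
    refine le_antisymm h1 ?_
    have hQp : (J.comap (algebraMap B R)).IsPrime := Ideal.comap_isPrime _ _
    have hQp2 : ((J.comap (algebraMap B R)).map ψ).IsPrime := Ideal.map_isPrime_of_surjective hψ hker
    have h3 : (J.comap (algebraMap B R)).map ψ ≤ q := Ideal.map_le_iff_le_comap.mpr h1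
    have h4 : q ≤ (J.comap (algebraMap B R)).map ψ := hqmin.2 ⟨hQp2, bot_le⟩ h3
    refine (Ideal.comap_mono h4).trans ?_
    rw [Ideal.comap_map_of_surjective ψ hψ]
    exact sup_le le_rfl hker
  have h3 := FlatDim.ringKrullDim_eq J hJle
  rw [h2] at h3
  rw [hdim] at hht
  obtain ⟨t, ht, h5⟩ := exists_height hht
  rw [ht] at h3
  have h6 := finrank_cotangentSpace_le J hI
  have h7 : (Module.finrank (ResidueField R) (CotangentSpace R) : WithBot ℕ∞) = ringKrullDim R :=
    finrank_cotangentSpace R
  have h8 : ((maximalIdeal (R ⧸ J)).spanFinrank : WithBot ℕ∞) = ringKrullDim (R ⧸ J) :=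
    hreg.spanFinrank_maximalIdeal
  rw [h3, ← h8] at h7
  have h9 : Module.finrank (ResidueField R) (CotangentSpace R) =
      t + (maximalIdeal (R ⧸ J)).spanFinrank := by exact_mod_cast h7
  have h11 : Module.finrank (ResidueField R) ((cotSpan (J : Set R)).map θ) =
        Module.finrank (ResidueField R) (cotSpan (J : Set R)) :=
    (LinearEquiv.finrank_eq (Submodule.equivMapOfInjective θ hinj (cotSpan (J : Set R)))).symm
  omega

end Groth.Agent.Ega4late.H544.CoreGen
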