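import Groth.Agent.Ega4late.H544.Frame
import Groth.Agent.Ega4A.CompleteCat
import Groth.Agent.Ega4A.EquidimFlat
import Groth.Agent.Ega4A.CatenaryDim
import Groth.Agent.Ega4B.DimFT2
import Groth.Agent.CalgB.PowField
import Groth.Agent.S0558
import Mathlib.RingTheory.Polynomial.Quotient
import Mathlib.RingTheory.RegularLocalRing.Polynomial
import Mathlib.RingTheory.KrullDimension.Field

/-!
Dimension formula for `k⟦T_1, …, T_d⟧[X_1, …, X_m]`.
-/

set_option autoImplicit false
universe u

namespace Groth.Agent.Ega4late.H544.Dim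

open IsLocalRing Groth.Agent.Ega4late.H544.Frame

/-- A regular local ring is a regular ring. -/
theorem isRegularRing_of_isRegularLocalRing (R : Type u) [CommRing R] [IsRegularLocalRing R] :
    IsRegularRing R := by
  rw [isRegularRing_iff]
  intro p hp
  exact Groth.Agent.S0564.result R p

/-- `ht p + dim R/p = dim R` in a regular local ring. -/
theorem height_add_dim_of_regular (R : Type u) [CommRing R] [IsRegularLocalRing R] (p : Ideal R) [p.IsPrime] :
    (p.height : WithBot ℕ∞) + ringKrullDim (R ⧸ p) = ringKrullDim R := by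
  have : IsDomain R := Groth.Agent.S0558.result R
  exact Ega4A.CatenaryDim.height_add_ringKrullDim_quotient_of_isDomain
    (Ega4A.CompleteCat.isCatenary_of_isUniversallyCatenary R
      (Ega4A.CompleteCat.isUniversallyCatenary_of_isRegularLocalRing R)) p

/-- If `B ⧸ Q` is already local at `M`, localizing at `M` does not change it. -/
theorem ringKrullDim_quotient_map_eq {B : Type u} [CommRing B] (M Q : Ideal B) [M.IsPrime] [Q.IsPrime]
    (hQM : Q ≤ M) (hloc : ∀ s ∉ M, IsUnit (Ideal.Quotient.mk Q s)) :
    ringKrullDim (Localization.AtPrime M ⧸ Q.map (algebraMap B (Localization.AtPrime M))) =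
      ringKrullDim (B ⧸ Q) := by
  have hdis : Disjoint (M.primeCompl : Set B) (Q : Set B) :=
    Set.disjoint_left.mpr fun x hx hxQ ↦ hx (hQM hxQ)
  have hcomap : (Q.map (algebraMap B (Localization.AtPrime M))).comap (algebraMap B (Localization.AtPrime M)) = Q :=
    IsLocalization.under_map_of_isPrime_disjoint M.primeCompl (Localization.AtPrime M) inferInstance hdis
  let φ : (B ⧸ Q) →+* (Localization.AtPrime M ⧸ Q.map (algebraMap B (Localization.AtPrime M))) :=
    Ideal.quotientMap _ (algebraMap B (Localization.AtPrime M)) hcomap.ge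
  have hφinj : Function.Injective φ := Ideal.quotientMap_injective' hcomap.le
  have hφsurj : Function.Surjective φ := by
    intro y
    obtain ⟨x, rfl⟩ := Ideal.Quotient.mk_surjective y
    obtain ⟨b, s, rfl⟩ := IsLocalization.exists_mk'_eq M.primeCompl x
    obtain ⟨u, hu⟩ := hloc s s.2
    refine ⟨Ideal.Quotient.mk Q b * (u⁻¹ : (B ⧸ Q)ˣ), ?_⟩
    have hcan : φ (Ideal.Quotient.mk Q (s : B)) * φ (u⁻¹ : (B ⧸ Q)ˣ) = 1 := by
      rw [← map_mul, ← hu, Units.mul_inv, map_one]
    have hmk : ∀ b, φ (Ideal.Quotient.mk Q b) =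
      Ideal.Quotient.mk _ (algebraMap B (Localization.AtPrime M) b) := fun b ↦ rfl
    have h5 : algebraMap B (Localization.AtPrime M) b =
      IsLocalization.mk' (Localization.AtPrime M) b s * algebraMap _ _ (s : B) :=
      (IsLocalization.mk'_spec (Localization.AtPrime M) b s).symm
    rw [map_mul, hmk, h5, map_mul, ← hmk, mul_assoc, hcan, mul_one]
  exact (ringKrullDim_eq_of_ringEquiv (RingEquiv.ofBijective φ ⟨hφinj, hφsurj⟩)).symm

/-- The height of a maximal ideal of a polynomial ring over a field. -/
theorem height_eq_of_isMaximal_field (K : Type u) [Field K] (m : ℕ) (M : Ideal (MvPolynomial (Fin m) K))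
    [M.IsMaximal] : M.height = m := by
  have h := Ega4B.DimFT2.height_add_dim K (MvPolynomial (Fin m) K) M
  letI : Field (MvPolynomial (Fin m) K ⧸ M) := Ideal.Quotient.field M
  rw [ringKrullDim_eq_zero_of_field (MvPolynomial (Fin m) K ⧸ M), add_zero,
    MvPolynomial.ringKrullDim_of_isNoetherianRing, ringKrullDim_eq_zero_of_field, zero_add, Nat.card_fin] at h
  exact_mod_cast h

/-- The height of a maximal ideal of a polynomial ring over a Noetherian local ring, lying over the closed point. -/
theorem height_eq_of_isMaximal (C : Type u) [CommRing C] [IsLocalRing C] [IsNoetherianRing C] (m : ℕ)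
    (M : Ideal (MvPolynomial (Fin m) C)) [hM' : M.IsMaximal]
    (hM : M.comap (MvPolynomial.C : C →+* MvPolynomial (Fin m) C) = maximalIdeal C) :
    M.height = (maximalIdeal C).height + m := by
  have hlo : M.LiesOver (maximalIdeal C) := ⟨hM.symm⟩
  rw [Ideal.height_eq_height_add_of_liesOver_of_hasGoingDown (maximalIdeal C) M]
  congr 1
  letI : Field (C ⧸ maximalIdeal C) := Ideal.Quotient.field _
  let e : MvPolynomial (Fin m) (C ⧸ maximalIdeal C) ≃+*
      (MvPolynomial (Fin m) C ⧸ (maximalIdeal C).map (algebraMap C (MvPolynomial (Fin m) C))) :=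
    (MvPolynomial.quotientEquivQuotientMvPolynomial (σ := Fin m) (maximalIdeal C)).toRingEquiv
  have hle : (maximalIdeal C).map (algebraMap C (MvPolynomial (Fin m) C)) ≤ M := by
    rw [Ideal.map_le_iff_le_comap]
    exact hM.ge
  have hmax : (M.map (Ideal.Quotient.mk ((maximalIdeal C).map (algebraMap C (MvPolynomial (Fin m) C))))).IsMaximal := by
    apply Ideal.IsMaximal.map_of_surjective_of_ker_le Ideal.Quotient.mk_surjective
    rwa [Ideal.mk_ker]
  have hmax2 : ((M.map (Ideal.Quotient.mk ((maximalIdeal C).map (algebraMap C (MvPolynomial (Fin m) C))))).comap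
      e).IsMaximal := Ideal.comap_isMaximal_of_surjective e e.surjective
  have h1 := height_eq_of_isMaximal_field (C ⧸ maximalIdeal C) m
    ((M.map (Ideal.Quotient.mk ((maximalIdeal C).map (algebraMap C (MvPolynomial (Fin m) C))))).comap e)
  rw [RingEquiv.height_comap] at h1
  exact h1

variable (k : Type u) [Field k] (d m : ℕ)

instance isNoetherianRing_PS : IsNoetherianRing (PS k d) := by
  have := Groth.Agent.CalgB.PowField.isRegularLocalRing (K := k) (d := d)
  infer_instance

instance isRegularRing_PS : IsRegularRing (PS k d) := by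
  have := Groth.Agent.CalgB.PowField.isRegularLocalRing (K := k) (d := d)
  exact isRegularRing_of_isRegularLocalRing _

theorem isRegularRing_PR : IsRegularRing (PR k d m) := inferInstance

theorem height_maximalIdeal_PS : (maximalIdeal (PS k d)).height = d := by
  have h := maximalIdeal_height_eq_ringKrullDim (R := PS k d)
  rw [Groth.Agent.CalgB.PowField.ringKrullDim_eq] at h
  exact_mod_cast h

variable {k d m}

/-- `ht Q + dim B/Q = d + m` for primes `Q` of `B = k⟦T⟧[X]` with `B/Q` local and integral over `k⟦T⟧`. -/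
theorem height_add_dim (Q : Ideal (PR k d m)) [Q.IsPrime] [IsLocalRing (PR k d m ⧸ Q)]
    (hint : ((Ideal.Quotient.mk Q).comp MvPolynomial.C).IsIntegral) :
    (Q.height : WithBot ℕ∞) + ringKrullDim (PR k d m ⧸ Q) = ((d + m : ℕ) : WithBot ℕ∞) := by
  let M : Ideal (PR k d m) := (maximalIdeal (PR k d m ⧸ Q)).comap (Ideal.Quotient.mk Q)
  have hMmax : M.IsMaximal := Ideal.comap_isMaximal_of_surjective _ Ideal.Quotient.mk_surjective
  have hMC : M.comap (MvPolynomial.C : PS k d →+* PR k d m) = maximalIdeal (PS k d) := by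
    rw [Ideal.comap_comap]
    have hh := Ideal.isMaximal_comap_of_isIntegral_of_isMaximal' (R := PS k d) (S := PR k d m ⧸ Q) _ hint
      (maximalIdeal (PR k d m ⧸ Q))
    exact IsLocalRing.eq_maximalIdeal hh
  have hMh : M.height = ((d + m : ℕ) : ℕ∞) := by
    rw [height_eq_of_isMaximal (PS k d) m M hMC, height_maximalIdeal_PS]
    push_cast
    rfl
  have hQM : Q ≤ M := by
    intro x hx
    rw [Ideal.mem_comap, Ideal.Quotient.eq_zero_iff_mem.mpr hx]
    exact Ideal.zero_mem _
  let R₀ := Localization.AtPrime M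
  haveI : IsRegularLocalRing R₀ := IsRegularRing.isRegularLocalRing_localization M
  have hdis : Disjoint (M.primeCompl : Set (PR k d m)) (Q : Set (PR k d m)) :=
    Set.disjoint_left.mpr fun x hx hxQ ↦ hx (hQM hxQ)
  haveI hQ' : (Q.map (algebraMap (PR k d m) R₀)).IsPrime :=
    IsLocalization.isPrime_of_isPrime_disjoint M.primeCompl R₀ Q inferInstance hdis
  have h1 := height_add_dim_of_regular R₀ (Q.map (algebraMap (PR k d m) R₀))
  have h2 : (Q.map (algebraMap (PR k d m) R₀)).height = Q.height :=
    IsLocalization.height_map_of_disjoint M.primeCompl Q hdis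
  have h3 : ringKrullDim R₀ = ((d + m : ℕ) : WithBot ℕ∞) := by
    rw [IsLocalization.AtPrime.ringKrullDim_eq_height M R₀, hMh]
    rfl
  have h4 := ringKrullDim_quotient_map_eq M Q hQM (fun s hs ↦ by
    by_contra h
    exact hs (by rw [Ideal.mem_comap]; exact h))
  rw [h2, h3, h4] at h1
  exact h1

end Groth.Agent.Ega4late.H544.Dim
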