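import Groth.Agent.Ega4late.H544.Assemble
import Groth.Agent.S0558
import Mathlib.FieldTheory.IsAlgClosed.AlgebraicClosure
import Mathlib.FieldTheory.Perfect

/-!
The implications of S3851.
-/

set_option autoImplicit false
universe u

namespace Groth.Agent.Ega4late.H544.Final

open IsLocalRing TensorProduct Groth.Agent.Ega4late.H544.Frame Groth.Agent.Ega4late.H539.OmegaHat

/-- The localization below a regular point along a flat map is a domain. -/
theorem isDomain_localization {A S : Type u} [CommRing A] [CommRing S] (fS : A →+* S) (hflat : fS.Flat)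
    (p' : Ideal S) [p'.IsPrime] (p : Ideal A) [p.IsPrime] (hp : p = p'.comap fS)
    (hreg : IsRegularLocalRing (Localization.AtPrime p')) : IsDomain (Localization.AtPrime p) := by
  have hdom : IsDomain (Localization.AtPrime p') := Groth.Agent.S0558.result (Localization.AtPrime p')
  have h1 := hflat.localRingHom p' p hp
  let h := Localization.localRingHom p p' fS hp
  letI : Algebra (Localization.AtPrime p) (Localization.AtPrime p') := h.toAlgebra
  haveI : Module.Flat (Localization.AtPrime p) (Localization.AtPrime p') := h1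
  haveI : IsLocalHom (algebraMap (Localization.AtPrime p) (Localization.AtPrime p')) :=
    Localization.isLocalHom_localRingHom p p' fS hp
  have h2 : Module.FaithfullyFlat (Localization.AtPrime p) (Localization.AtPrime p') :=
    Module.FaithfullyFlat.of_flat_of_isLocalHom
  have h3 : Function.Injective (algebraMap (Localization.AtPrime p) (Localization.AtPrime p')) :=
    FaithfulSMul.algebraMap_injective _ _
  exact h3.isDomain _

section

variable {k A : Type u} [Field k] [CommRing A] [IsLocalRing A] [IsNoetherianRing A] [Algebra k A]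
  [IsAdicComplete (maximalIdeal A) A] [Module.Finite k (ResidueField A)]

/-- (b) ⟹ (a). -/
theorem regular_of_free (p : Ideal A) [p.IsPrime] (n : ℕ)
    (hn₂ : ∃ q ∈ minimalPrimes A, q ≤ p ∧ ringKrullDim (A ⧸ q) = n)
    (hb : Module.Free (Localization.AtPrime p) (LocalizedModule p.primeCompl (OmHat k A)) ∧
      Module.finrank (Localization.AtPrime p) (LocalizedModule p.primeCompl (OmHat k A)) = n)
    (k' : Type u) [Field k'] [Algebra k k']
    (p' : Ideal (AdicCompletion ((maximalIdeal A).map
      (Algebra.TensorProduct.includeLeft : A →ₐ[k] A ⊗[k] k')) (A ⊗[k] k'))) [p'.IsPrime]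
    (hp' : (p'.comap (algebraMap (A ⊗[k] k') _)).comap
      (Algebra.TensorProduct.includeLeft : A →ₐ[k] A ⊗[k] k').toRingHom = p) :
    IsRegularLocalRing (Localization.AtPrime p') := by
  obtain ⟨d, m, _, _, _, _, f, hf, hX⟩ := Struct.exists_struct k A
  rw [Ideal.comap_comap] at hp'
  obtain ⟨g, h1, h2, h3, -, h5, -, -⟩ := Pkg.exists_pkg k k' A d m f hf
    ((algebraMap (A ⊗[k] k') _).comp (Algebra.TensorProduct.includeLeft : A →ₐ[k] A ⊗[k] k').toRingHom)
    (fun _ ↦ rfl)
  obtain ⟨q, hqmin, hqp, hdim⟩ := hn₂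
  have hqprime : q.IsPrime := hqmin.1.1
  refine Assemble.regular_of_finrank f hf hX k' _ g h1 h2 h3 h5 p' n ?_ q (hp' ▸ hqp) hdim
  intro κ _ _ hκ
  rw [hp'] at hκ
  exact FieldRank.finrank_of_free (OmHat k A) p n hb.1 hb.2 κ hκ

/-- (a') ⟹ (b). -/
theorem free_of_regular (p : Ideal A) [p.IsPrime] (n : ℕ)
    (hn₂ : ∃ q ∈ minimalPrimes A, q ≤ p ∧ ringKrullDim (A ⧸ q) = n)
    (k' : Type u) [Field k'] [Algebra k k'] [PerfectField k']
    (p' : Ideal (AdicCompletion ((maximalIdeal A).map
      (Algebra.TensorProduct.includeLeft : A →ₐ[k] A ⊗[k] k')) (A ⊗[k] k'))) [p'.IsPrime]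
    (hp' : (p'.comap (algebraMap (A ⊗[k] k') _)).comap
      (Algebra.TensorProduct.includeLeft : A →ₐ[k] A ⊗[k] k').toRingHom = p)
    (hreg : IsRegularLocalRing (Localization.AtPrime p')) :
    Module.Free (Localization.AtPrime p) (LocalizedModule p.primeCompl (OmHat k A)) ∧
      Module.finrank (Localization.AtPrime p) (LocalizedModule p.primeCompl (OmHat k A)) = n := by
  obtain ⟨d, m, _, _, _, _, f, hf, hX⟩ := Struct.exists_struct k A
  rw [Ideal.comap_comap] at hp'
  obtain ⟨g, h1, h2, h3, h4, h5, h6, -⟩ := Pkg.exists_pkg k k' A d m f hf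
    ((algebraMap (A ⊗[k] k') _).comp (Algebra.TensorProduct.includeLeft : A →ₐ[k] A ⊗[k] k').toRingHom)
    (fun _ ↦ rfl)
  obtain ⟨q, hqmin, hqp, hdim⟩ := hn₂
  have hqprime : q.IsPrime := hqmin.1.1
  obtain ⟨κ, i1, i2, hκ, hle⟩ := Assemble.finrank_le_of_regular f hf hX k' _ g h1 h2 h3 h5 h4 p' n hreg q hqmin
    (hp' ▸ hqp) hdim
  rw [hp'] at hκ
  have hdom := isDomain_localization _ h6 p' p hp'.symm hreg
  have hfinite := finite_omHat k A
  exact FieldRank.free_localized (M := OmHat k A) p hdom n ⟨κ, i1, i2, hκ, hle⟩ q hqmin hqp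
    (Assemble.le_finrank f hf hX q n hdim)

/-- (a) ⟹ (a'). -/
theorem exists_perfect (p : Ideal A) [p.IsPrime] :
    ∃ (k' : Type u) (_ : Field k') (_ : Algebra k k') (_ : PerfectField k')
      (p' : Ideal (AdicCompletion ((maximalIdeal A).map
          (Algebra.TensorProduct.includeLeft : A →ₐ[k] A ⊗[k] k')) (A ⊗[k] k'))), p'.IsPrime ∧
        (p'.comap (algebraMap (A ⊗[k] k') _)).comap
          (Algebra.TensorProduct.includeLeft : A →ₐ[k] A ⊗[k] k').toRingHom = p := by
  obtain ⟨d, m, _, _, _, _, f, hf, hX⟩ := Struct.exists_struct k A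
  obtain ⟨g, -, -, -, -, -, -, h7⟩ := Pkg.exists_pkg k (AlgebraicClosure k) A d m f hf
    ((algebraMap (A ⊗[k] (AlgebraicClosure k)) _).comp
      (Algebra.TensorProduct.includeLeft : A →ₐ[k] A ⊗[k] (AlgebraicClosure k)).toRingHom)
    (fun _ ↦ rfl)
  obtain ⟨p', hp', h8⟩ := h7 p
  refine ⟨AlgebraicClosure k, inferInstance, inferInstance, inferInstance, p', hp', ?_⟩
  rw [Ideal.comap_comap]
  exact h8

end

end Groth.Agent.Ega4late.H544.Final
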