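import Groth.Agent.Ega4late.H544.Point
import Groth.Agent.Ega4late.H544.CoreGen
import Groth.Agent.Ega4A.QuotLoc

/-!
The two key implications of S3851 at a prime `p'` of a base change `S` of `A`, in an abstract setting:
`B₀ → A` and `B → S` are surjections from regular rings, `B₀ → B` is flat and compatible with frames of
derivations which present the module `Ω`.
-/

set_option autoImplicit false
universe u

namespace Groth.Agent.Ega4late.H544.PointGen

open IsLocalRing TensorProduct Groth.Agent.Ega4late.H544.CotLin Groth.Agent.Ega4late.H544.Point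

section rank

variable {A Ω B₀ : Type u} [CommRing A] [AddCommGroup Ω] [Module A Ω] [CommRing B₀] (ψ : B₀ →+* A)
  {ι : Type} [Fintype ι] (D₀ : ι → B₀ → B₀)
  {K B : Type u} [Field K] [CommRing B] [Algebra K B] (D : ι → Derivation K B B)
  (P : Ideal B) [P.IsPrime]
  (R : Type u) [CommRing R] [IsLocalRing R] [Algebra B R] [IsLocalization.AtPrime R P] [Algebra B₀ R]

/-- The rank of the fibre of `Ω`. -/
theorem finrank_fibre (π : (ι → A) →ₗ[A] Ω) (hπ : Function.Surjective π)
    (hker : LinearMap.ker π = Submodule.span A ((fun (f : B₀) (l : ι) ↦ ψ (D₀ l f)) '' (RingHom.ker ψ : Set B₀)))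
    (φ : B₀ →+* B) (hφR : ∀ f, algebraMap B₀ R f = algebraMap B R (φ f))
    (hφ : ∀ l f, φ (D₀ l f) = D l (φ f))
    (hI : (RingHom.ker ψ).map (algebraMap B₀ R) ≤ maximalIdeal R)
    [Algebra A (ResidueField R)]
    (hcomp : ∀ f, algebraMap A (ResidueField R) (ψ f) = algebraMap B₀ (ResidueField R) f) :
    Module.finrank (ResidueField R) (ResidueField R ⊗[A] Ω) +
      Module.finrank (ResidueField R)
        ((cotSpan ((RingHom.ker ψ).map (algebraMap B₀ R) : Set R)).map (theta (locDer D P R))) =
      Fintype.card ι := by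
  have h1 := FibreRank.finrank_add_finrank (κ := ResidueField R) π hπ _ hker
  have hS : (algebraMap B₀ R) '' (RingHom.ker ψ : Set B₀) ⊆ maximalIdeal R := by
    rintro _ ⟨f, hf, rfl⟩
    exact hI (Ideal.mem_map_of_mem _ hf)
  have hfun : (fun (f : B₀) (l : ι) ↦ locDer D P R l (algebraMap B₀ R f)) =
      fun f l ↦ algebraMap A (ResidueField R) (ψ (D₀ l f)) := by
    funext f l
    rw [hφR, locDer_algebraMap, ← hφ, hcomp]
    change residue R (algebraMap B R (φ (D₀ l f))) = residue R (algebraMap B₀ R (D₀ l f))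
    rw [hφR]
  have hsub : (cotSpan ((RingHom.ker ψ).map (algebraMap B₀ R) : Set R)).map (theta (locDer D P R)) =
      Submodule.span (ResidueField R) ((fun v : ι → A ↦ fun i ↦ algebraMap A (ResidueField R) (v i)) ''
        ((fun (f : B₀) (l : ι) ↦ ψ (D₀ l f)) '' (RingHom.ker ψ : Set B₀))) := by
    rw [Ideal.map, cotSpan_span _ hS, map_theta_cotSpan _ _ hS, ← Set.image_comp, ← Set.image_comp]
    simp only [Function.comp_def]
    rw [hfun]
  rw [hsub]
  exact h1

end rank

end Groth.Agent.Ega4late.H544.PointGen
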